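import Mathlib
import Cfsg.Agent.H613.KKL.Defs
import Cfsg.Agent.EvenType.CharTwoCent
import Cfsg.Agent.Lib.Cores

/-!
# S4546 (KKL), rows: criteria (helper651)

* `le_D` : normal 2-subgroups of `C(z)`, `z ∈ D`, lie in `D`.
* `kill_two` : `C(z)` has a normal 2-subgroup of order `> 8` or with an element of order 4.
* `charTwo` : groups of characteristic 2 type with `16 ∣ |S|` have no configuration.
-/

set_option autoImplicit false

open Cfsg Subgroup Cfsg.Agent.H613.KKL

namespace Cfsg.Agent.H651.KKL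

variable {S : Type*} [Group S] {D : Subgroup S} {x : S}

theorem exists_inv (h : Cfg0 D x) : ∃ z ∈ D, z ≠ 1 ∧ z * z = 1 := by
  have h1 : 1 < Nat.card D := by rw [h.e8.card]; norm_num
  have : Finite D := Nat.finite_of_card_ne_zero (by omega)
  rw [Finite.one_lt_card_iff_nontrivial] at h1
  obtain ⟨⟨z, hz⟩, hne⟩ := exists_ne (1 : D)
  exact ⟨z, hz, fun h2 => hne (Subtype.ext h2), h.e8.inv z hz⟩

theorem comm_D (h : Cfg0 D x) {a b : S} (ha : a ∈ D) (hb : b ∈ D) : a * b = b * a := by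
  have h1 := h.e8.inv _ (D.mul_mem ha hb)
  have h2 := h.e8.inv _ ha
  have h3 := h.e8.inv _ hb
  calc a * b = b * b * (a * b) * (a * a) := by rw [h3, h2]; group
    _ = b * (b * a * (b * a)) * a := by group
    _ = b * a := by rw [h.e8.inv _ (D.mul_mem hb ha)]; group

theorem isPGroup_D (h : Cfg0 D x) : IsPGroup 2 D := by
  rintro ⟨d, hd⟩
  refine ⟨1, Subtype.ext ?_⟩
  show d ^ (2 ^ 1) = 1
  rw [pow_one, pow_two, h.e8.inv d hd]

theorem centralizer_zpowers (z : S) :
    centralizer ((zpowers z : Subgroup S) : Set S) = centralizer ({z} : Set S) := by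
  rw [zpowers_eq_closure, centralizer_closure]

/-- normal 2-subgroups of the centralizer of an element of `D` lie in `D` -/
theorem le_D (h : Cfg0 D x) {z : S} (hz : z ∈ D) {N : Subgroup S} (hN2 : IsPGroup 2 N)
    (hNz : N ≤ centralizer {z}) (hNn : ∀ c ∈ centralizer ({z} : Set S), ∀ n ∈ N, c * n * c⁻¹ ∈ N) : N ≤ D := by
  refine h.rad (zpowers z) ((zpowers_le).2 hz) N hN2 ?_ ?_
  · rw [centralizer_zpowers]; exact hNz
  · rw [centralizer_zpowers]; exact hNn

theorem kill_card (h : Cfg0 D x) {z : S} (hz : z ∈ D) {N : Subgroup S} (hN2 : IsPGroup 2 N)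
    (hNz : N ≤ centralizer {z}) (hNn : ∀ c ∈ centralizer ({z} : Set S), ∀ n ∈ N, c * n * c⁻¹ ∈ N)
    (h8 : 8 < Nat.card N) : False := by
  have h1 := le_D h hz hN2 hNz hNn
  have : Finite D := Nat.finite_of_card_ne_zero (by rw [h.e8.card]; norm_num)
  have h2 := Nat.card_le_card_of_injective (inclusion h1) (inclusion_injective h1)
  rw [h.e8.card] at h2
  omega

theorem kill_sq (h : Cfg0 D x) {z : S} (hz : z ∈ D) {N : Subgroup S} (hN2 : IsPGroup 2 N)
    (hNz : N ≤ centralizer {z}) (hNn : ∀ c ∈ centralizer ({z} : Set S), ∀ n ∈ N, c * n * c⁻¹ ∈ N)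
    {n : S} (hn : n ∈ N) (hn2 : n * n ≠ 1) : False :=
  hn2 (h.e8.inv n (le_D h hz hN2 hNz hNn hn))

/-- `C(z)`, `z ∈ D#`, is not of characteristic 2 if `16 ∣ |S|`. -/
theorem kill_charTwo [Finite S] (h : Cfg0 D x) {z : S} (hz : z ∈ D)
    (hc : IsOfCharacteristicTwo ↥(centralizer ({z} : Set S))) (h16 : 16 ∣ Nat.card S) : False := by
  set C := centralizer ({z} : Set S) with hC
  have hN2 : IsPGroup 2 ↥((pCore 2 ↥C).map C.subtype) := by
    have : IsPGroup 2 ↥(pCore 2 ↥C) := Cfsg.Agent.Lib.Cores.pCore_isPGroup 2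
    exact this.map _
  have hle : (pCore 2 ↥C).map C.subtype ≤ D := by
    refine le_D h hz hN2 (map_subtype_le _) ?_
    rintro c hcC _ ⟨n, hn, rfl⟩
    exact ⟨⟨c, hcC⟩ * n * ⟨c, hcC⟩⁻¹, (Cfsg.Agent.Lib.Cores.pCore_normal (G := ↥C) 2).conj_mem n hn _, rfl⟩
  have hDC : D ≤ C := fun d hd => mem_centralizer_singleton_iff.2 (comm_D h hd hz)
  have hxC : x ∈ C := mem_centralizer_singleton_iff.2 (h.comm z hz).symm
  have key : ∀ c : S, c ∈ C → (∀ d ∈ D, d * c = c * d) → c ∈ D := by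
    intro c hcC hcd
    refine hle ⟨⟨c, hcC⟩, hc (mem_centralizer_iff.2 fun n hn => Subtype.ext ?_), rfl⟩
    exact hcd n (hle ⟨n, hn, rfl⟩)
  have hx1 : x = 1 := by
    have h1 := h.e8.inv x (key x hxC fun d hd => h.comm d hd)
    have h2 := h.odd
    have h3 : orderOf x ∣ 2 := orderOf_dvd_of_pow_eq_one (by rw [pow_two, h1])
    rcases (Nat.dvd_prime Nat.prime_two).1 h3 with h4 | h4
    · exact orderOf_eq_one_iff.1 h4
    · rw [h4] at h2; exact absurd h2 (by decide)
  obtain ⟨Q, hQ⟩ := Sylow.exists_subgroup_card_pow_prime (G := S) 2 (n := 4) (by norm_num; exact h16)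
  have hQ2 : IsPGroup 2 Q := IsPGroup.of_card hQ
  obtain ⟨c, -, hcQ⟩ := h.syl Q hQ2 fun q _ => by rw [hx1, mul_one, one_mul]
  have h5 : Q.map (MulAut.conj c).toMonoidHom ≤ D := by
    rintro _ ⟨q, hq, rfl⟩
    exact hcQ q hq
  have h6 := Nat.card_le_card_of_injective (inclusion h5) (inclusion_injective h5)
  rw [h.e8.card, Subgroup.card_map_of_injective (MulAut.conj c).injective, hQ] at h6
  omega

/-- **Groups of characteristic 2 type.** -/
theorem charTwo [Finite S] (hc : IsCharacteristicTwoType S) (h16 : 16 ∣ Nat.card S) : NoCfg S := by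
  intro D x h
  obtain ⟨z, hz, hz1, hzz⟩ := exists_inv h
  have ht : orderOf z = 2 := orderOf_eq_prime (by rw [pow_two, hzz]) hz1
  exact kill_charTwo h hz (EvenType.CharTwoCent.char2_centralizer hc ht) h16

/-- `C(z)` has a normal 2-subgroup of order `> 8` or with an element of order 4 -/
def Bad (z : S) : Prop :=
  ∃ N : Subgroup S, IsPGroup 2 N ∧ N ≤ centralizer {z} ∧
    (∀ c ∈ centralizer ({z} : Set S), ∀ n ∈ N, c * n * c⁻¹ ∈ N) ∧ (8 < Nat.card N ∨ ∃ n ∈ N, n * n ≠ 1)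

theorem Bad.map {S' : Type*} [Group S'] (e : S ≃* S') {z : S} (h : Bad z) : Bad (e z) := by
  obtain ⟨N, h1, h2, h3, h4⟩ := h
  refine ⟨N.map e.toMonoidHom, h1.map _, ?_, ?_, ?_⟩
  · rintro _ ⟨n, hn, rfl⟩
    have := mem_centralizer_singleton_iff.1 (h2 hn)
    exact mem_centralizer_singleton_iff.2 (by
      show e n * e z = e z * e n
      rw [← map_mul, this, map_mul])
  · rintro c hc _ ⟨n, hn, rfl⟩
    refine ⟨e.symm c * n * (e.symm c)⁻¹, h3 _ ?_ n hn, ?_⟩
    · have := mem_centralizer_singleton_iff.1 hc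
      refine mem_centralizer_singleton_iff.2 (e.injective ?_)
      rw [map_mul, map_mul, e.apply_symm_apply, this]
    · show e (e.symm c * n * (e.symm c)⁻¹) = c * e n * c⁻¹
      rw [map_mul, map_mul, map_inv, e.apply_symm_apply]
  · rcases h4 with h4 | ⟨n, hn, hn2⟩
    · left
      rwa [Subgroup.card_map_of_injective e.injective]
    · right
      refine ⟨e n, ⟨n, hn, rfl⟩, fun h5 => hn2 (e.injective ?_)⟩
      rw [map_mul, h5, map_one]

theorem Bad.conj {z : S} (h : Bad z) (g : S) : Bad (g * z * g⁻¹) := h.map (MulAut.conj g)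

theorem Bad.of_isConj {s z : S} (h : Bad s) (hc : IsConj s z) : Bad z := by
  obtain ⟨g, hg⟩ := isConj_iff.1 hc
  rw [← hg]
  exact h.conj g

theorem not_bad (h : Cfg0 D x) {z : S} (hz : z ∈ D) : ¬ Bad z := by
  rintro ⟨N, h1, h2, h3, h4 | ⟨n, hn, hn2⟩⟩
  · exact kill_card h hz h1 h2 h3 h4
  · exact kill_sq h hz h1 h2 h3 hn hn2

/-- all the involutions are bad -/
theorem of_bad (h : ∀ z : S, z * z = 1 → z ≠ 1 → Bad z) : NoCfg S := by
  intro D x hc
  obtain ⟨z, hz, hz1, hzz⟩ := exists_inv hc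
  exact not_bad hc hz (h z hzz hz1)

end Cfsg.Agent.H651.KKL
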