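import Mathlib
import Cfsg.Agent.H651.KKL.Base
import Cfsg.Agent.SevenCases.SporJ4
import Cfsg.Agent.SevenCases.SporCo2
import Cfsg.Agent.SevenCases.SporTh
import Cfsg.Agent.S1703
import Cfsg.Agent.BiChar.SmallCard
import Cfsg.Agent.Th.Main1700

/-!
# S4546 (KKL): the rows `J₄`, `Co₂`, `Th` (helper651): characteristic 2 type
-/

set_option autoImplicit false

open Cfsg Subgroup Cfsg.Agent.H613.KKL

namespace Cfsg.Agent.H651.KKL

universe u

variable {S : Type u} [Group S] [Finite S]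

theorem E_J4 (h : Spor.IsoJ4 S) : NoCfg S := by
  refine charTwo (SevenCases.SporJ4.charTwo h) ?_
  obtain ⟨e⟩ := h
  rw [Nat.card_congr e.toEquiv, Cfsg.Agent.S1703.result.2]
  norm_num

theorem E_Co2 (h : Spor.IsoCo2 S) : NoCfg S := by
  refine charTwo (SevenCases.SporCo2.charTwo h) ?_
  obtain ⟨e⟩ := h
  rw [Nat.card_congr e.toEquiv, BiChar.Small.card_Co2]
  norm_num

theorem E_Th (h : Spor.IsoTh S) : NoCfg S := by
  refine charTwo (SevenCases.SporTh.charTwo h) ?_
  obtain ⟨e⟩ := h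
  rw [Nat.card_congr e.toEquiv, Cfsg.Agent.Th.Main1700.final.2.1]
  norm_num

end Cfsg.Agent.H651.KKL
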