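import Mathlib
import Cfsg.Agent.H651.KKL.Base
import Cfsg.Agent.KFacts.ON.Aut
import Cfsg.Agent.KFacts.ON.OneClass

/-!
# S4546 (KKL): the row `O'N` (helper651): `O_2(C(f)) ≥ ⟨v⟩`, cyclic of order 4
-/

set_option autoImplicit false

open Cfsg Subgroup Cfsg.Agent.H613.KKL
open Cfsg.Spor (ON)
open Cfsg.Agent.SporadicB.ON45Word (on)
open Cfsg.Agent.KFacts.ON.Words Cfsg.Agent.KFacts.ON.Struct Cfsg.Agent.KFacts.ON.Qs
open Cfsg.Agent.KFacts.ON.OneClass (one_class)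
open Cfsg.Agent.ONType.TupK (K0)

namespace Cfsg.Agent.H651.KKL

namespace ONRow

theorem bad_f : Bad (on .f) := by
  refine ⟨zpowers v, ?_, ?_, ?_, Or.inr ⟨v, mem_zpowers v, ?_⟩⟩
  · rintro ⟨u, hu⟩
    refine ⟨2, Subtype.ext ?_⟩
    show u ^ (2 ^ 2) = 1
    obtain ⟨k, rfl⟩ := mem_zpowers_iff.1 hu
    rw [← zpow_natCast, ← zpow_mul, mul_comm, zpow_mul]
    have : v ^ ((2 ^ 2 : ℕ) : ℤ) = 1 := by
      rw [zpow_natCast]; exact v4
    rw [this, one_zpow]
  · rw [zpowers_le]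
    exact mem_centralizer_singleton_iff.2 (mem_K0.1 (J_le vJ))
  · intro c hc n hn
    obtain ⟨k, rfl⟩ := mem_zpowers_iff.1 hn
    have h1 : c ∈ K0 := mem_K0.2 (mem_centralizer_singleton_iff.1 hc)
    rw [← conj_zpow]
    rcases conj_v h1 with h2 | h2
    · rw [h2]; exact zpow_mem (mem_zpowers v) k
    · rw [h2]; exact zpow_mem (inv_mem (mem_zpowers v)) k
  · rw [vv]; exact f_ne_one

end ONRow

theorem E_ON {S : Type*} [Group S] [Finite S] (h : Spor.IsoON S) : NoCfg S := by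
  obtain ⟨e⟩ := h
  refine of_bad fun z hzz hz1 => ?_
  have h1 : Bad (e z) := by
    refine ONRow.bad_f.of_isConj (one_class ?_ ?_).symm
    · rw [← map_mul, hzz, map_one]
    · exact fun h2 => hz1 (e.injective (by rw [h2, map_one]))
  have h2 := h1.map e.symm
  rwa [e.symm_apply_apply] at h2

end Cfsg.Agent.H651.KKL
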